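import Groth.Agent.AnPts.Conn.ZeroSet
import Mathlib.FieldTheory.PrimitiveElement
import Mathlib.RingTheory.IntegralClosure.IntegralRestrict
import Mathlib.RingTheory.Localization.Integral
import Mathlib.RingTheory.Localization.Finiteness
import Mathlib.FieldTheory.Perfect

/-! An integral complex affine variety has a nonempty open subset with connected complex points. -/

open Polynomial Filter Topology IntermediateField nonZeroDivisors

noncomputable section

namespace Groth.Agent.AnPts.Conn

variable {A : Type} [CommRing A] [IsDomain A] [Algebra ℂ A] [Algebra.FiniteType ℂ A]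

theorem exists_preconnected_aux {d : ℕ} [Algebra (MvPolynomial (Fin d) ℂ) A]
    [IsScalarTower ℂ (MvPolynomial (Fin d) ℂ) A] [Module.Finite (MvPolynomial (Fin d) ℂ) A]
    [FaithfulSMul (MvPolynomial (Fin d) ℂ) A] {ι : Type} [Fintype ι] (s : ι → A) :
    ∃ g : A, g ≠ 0 ∧
      IsPreconnected ((fun (ψ : A →ₐ[ℂ] ℂ) (i : ι) => ψ (s i)) '' {ψ | ψ g ≠ 0}) := by
  classical
  let P := MvPolynomial (Fin d) ℂ
  let K := FractionRing P
  let L := FractionRing A
  letI : Algebra K L := FractionRing.liftAlgebra P _
  haveI : IsScalarTower P K L := FractionRing.isScalarTower_liftAlgebra P L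
  haveI : IsLocalization (Algebra.algebraMapSubmonoid A P⁰) L := by
    refine (IsLocalization.iff_of_le_of_exists_dvd (S := L) (Algebra.algebraMapSubmonoid A P⁰) A⁰
      ?_ ?_).2 inferInstance
    · rintro _ ⟨p, hp, rfl⟩
      exact mem_nonZeroDivisors_of_ne_zero fun e => nonZeroDivisors.ne_zero hp
        (FaithfulSMul.algebraMap_injective P A (by rw [e, map_zero]))
    · intro a ha
      obtain ⟨p, hp, hp0⟩ := Submodule.exists_mem_ne_zero_of_ne_bot
        (Ideal.comap_ne_bot_of_integral_mem (R := P) (nonZeroDivisors.ne_zero ha)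
          (Ideal.mem_span_singleton_self a) (Algebra.IsIntegral.isIntegral a))
      exact ⟨algebraMap P A p, ⟨p, mem_nonZeroDivisors_of_ne_zero hp0, rfl⟩,
        Ideal.mem_span_singleton.1 hp⟩
  haveI : FiniteDimensional K L := .of_isLocalization P A P⁰
  haveI : CharZero P := inferInstanceAs (CharZero (MvPolynomial (Fin d) ℂ))
  haveI : CharZero K := charZero_of_injective_algebraMap (IsFractionRing.injective P K)
  obtain ⟨α, hα⟩ := Field.exists_primitive_element K L
  obtain ⟨a, ⟨_, b, hb, rfl⟩, rfl⟩ :=
    IsLocalization.exists_mk'_eq (Algebra.algebraMapSubmonoid A P⁰) α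
  have hθ : algebraMap A L a = algebraMap P K b •
      IsLocalization.mk' L a (⟨_, b, hb, rfl⟩ : Algebra.algebraMapSubmonoid A P⁰) := by
    rw [Algebra.smul_def, ← IsScalarTower.algebraMap_apply P K L,
      IsScalarTower.algebraMap_apply P A L, mul_comm, IsLocalization.mk'_spec]
  have hb0 : algebraMap P K b ≠ 0 := fun e =>
    nonZeroDivisors.ne_zero hb (IsFractionRing.injective P K (by rw [e, map_zero]))
  have htop : Algebra.adjoin K {algebraMap A L a} = ⊤ := by
    have h1 : K⟮algebraMap A L a⟯ = ⊤ := by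
      refine top_le_iff.1 (hα ▸ adjoin_simple_le_iff.2 ?_)
      have := K⟮algebraMap A L a⟯.smul_mem (mem_adjoin_simple_self K (algebraMap A L a))
        (x := (algebraMap P K b)⁻¹)
      conv at this =>
        arg 2
        rw [hθ, inv_smul_smul₀ hb0]
      exact this
    rw [← adjoin_simple_toSubalgebra_of_isAlgebraic (Algebra.IsAlgebraic.isAlgebraic _), h1,
      top_toSubalgebra]
  have hAint : IsIntegral P a := Algebra.IsIntegral.isIntegral a
  have hinjAL : Function.Injective (algebraMap A L) := IsFractionRing.injective A L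
  have hs : ∀ i, ∃ (e : P) (R : P[X]), e ≠ 0 ∧ algebraMap P A e * s i = aeval a R := by
    intro i
    obtain ⟨G, hG⟩ := Algebra.adjoin_singleton_eq_range_aeval K (algebraMap A L a) ▸
      (htop ▸ Algebra.mem_top : algebraMap A L (s i) ∈ Algebra.adjoin K {algebraMap A L a})
    obtain ⟨e, he, hR⟩ := IsLocalization.integerNormalization_spec (P⁰) G
    refine ⟨e, IsLocalization.integerNormalization (P⁰) G, nonZeroDivisors.ne_zero he, hinjAL ?_⟩
    change aeval (algebraMap A L a) G = algebraMap A L (s i) at hG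
    rw [map_mul, ← IsScalarTower.algebraMap_apply, ← Algebra.smul_def,
      ← aeval_algebraMap_apply (B := L), ← aeval_map_algebraMap K, hR, ← IsScalarTower.algebraMap_smul K,
      ← IsScalarTower.algebraMap_smul K e G, map_smul, hG]
  choose e R he0 hsR using hs
  set m := minpoly P a with hm_def
  have hm : m.Monic := minpoly.monic hAint
  have hirr : Irreducible m := minpoly.irreducible hAint
  have hsep : (m.map (algebraMap P K)).Separable := by
    rw [hm_def, ← minpoly.isIntegrallyClosed_eq_field_fractions K L hAint]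
    exact (minpoly.irreducible (hAint.map (IsScalarTower.toAlgHom P A L)).tower_top).separable
  obtain ⟨u, w, huw⟩ := hsep
  obtain ⟨du, hdu, hu⟩ := IsLocalization.integerNormalization_spec (P⁰) u
  obtain ⟨dw, hdw, hw⟩ := IsLocalization.integerNormalization_spec (P⁰) w
  set U := IsLocalization.integerNormalization (P⁰) u
  set W := IsLocalization.integerNormalization (P⁰) w
  have hD : C dw * U * m + C du * W * derivative m = C (du * dw) := by
    apply Polynomial.map_injective (algebraMap P K) (IsFractionRing.injective P K)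
    simp only [Polynomial.map_add, Polynomial.map_mul, map_C, hu, hw, ← derivative_map,
      Algebra.smul_def, IsScalarTower.algebraMap_apply P K K[X], ← C_eq_algebraMap, map_mul]
    linear_combination (C (algebraMap P K du) * C (algebraMap P K dw)) * huw
  let h : P := du * dw * ∏ i, e i
  have hh0 : h ≠ 0 := mul_ne_zero (mul_ne_zero (nonZeroDivisors.ne_zero hdu)
    (nonZeroDivisors.ne_zero hdw)) (Finset.prod_ne_zero_iff.2 fun i _ => he0 i)
  have hev : ∀ v, MvPolynomial.eval v h ≠ 0 → MvPolynomial.eval v (du * dw) ≠ 0 ∧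
      ∀ i, MvPolynomial.eval v (e i) ≠ 0 := by
    intro v hv
    simp only [h, map_mul, map_prod, mul_ne_zero_iff, Finset.prod_ne_zero_iff] at hv
    exact ⟨by rw [map_mul]; exact mul_ne_zero hv.1.1 hv.1.2, fun i => hv.2 i (Finset.mem_univ i)⟩
  have hsep' : ∀ v, MvPolynomial.eval v h ≠ 0 → ∀ t, (sp m v).eval t = 0 →
      (sp m v).derivative.eval t ≠ 0 := by
    intro v hv t ht hd
    apply (hev v hv).1
    have := congrArg (fun q => (sp q v).eval t) hD
    simp only [sp, Polynomial.map_add, Polynomial.map_mul, eval_add, eval_mul, map_C, eval_C] at this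
    rw [derivative_map] at hd
    rw [ht, hd] at this
    simpa using this.symm
  refine ⟨algebraMap P A h, fun e0 => hh0 (FaithfulSMul.algebraMap_injective P A
    (by rw [e0, map_zero])), ?_⟩
  let G : (Fin d → ℂ) × ℂ → (ι → ℂ) := fun p i =>
    (sp (R i) p.1).eval p.2 / MvPolynomial.eval p.1 (e i)
  have hG : ContinuousOn G {p : (Fin d → ℂ) × ℂ | MvPolynomial.eval p.1 h ≠ 0 ∧
      (sp m p.1).eval p.2 = 0} :=
    continuousOn_pi.2 fun i => (continuous_sp_eval (R i)).continuousOn.div
      ((MvPolynomial.continuous_eval _).comp continuous_fst).continuousOn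
      fun p hp => (hev p.1 hp.1).2 i
  have key : ∀ (v : Fin d → ℂ) (t : ℂ) (ψ : A →ₐ[ℂ] ℂ), ψ ∈ Near.fibre v → ψ a = t →
      MvPolynomial.eval v h ≠ 0 → G (v, t) = fun i => ψ (s i) := by
    intro v t ψ hψ hψa hv
    funext i
    have h2 := congrArg ψ (hsR i)
    rw [map_mul, hψ] at h2
    change (sp (R i) v).eval t / MvPolynomial.eval v (e i) = _
    rw [div_eq_iff ((hev v hv).2 i), mul_comm, h2, aeval_def, ← AlgHom.coe_toRingHom, hom_eval₂,
      sp, eval_map, show (ψ : A →+* ℂ) a = t from hψa]
    congr 1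
    exact RingHom.ext fun r => (hψ r).symm
  convert (isPreconnected_zeroSet hm hirr hsep').image G hG using 1
  ext x
  constructor
  · rintro ⟨ψ, hψ, rfl⟩
    let v : Fin d → ℂ := fun i => ψ (algebraMap P A (MvPolynomial.X i))
    have hv : ψ ∈ Near.fibre v := fun r => by
      have e : ψ.comp (IsScalarTower.toAlgHom ℂ P A) = MvPolynomial.aeval v :=
        MvPolynomial.algHom_ext fun i => by simp [v]; rfl
      exact DFunLike.congr_fun e r
    have hvh : MvPolynomial.eval v h ≠ 0 := by rw [← hv h]; exact hψ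
    exact ⟨(v, ψ a), ⟨hvh, Near.aeval_eq_zero_apply hv (minpoly.aeval P a)⟩, key v _ ψ hv rfl hvh⟩
  · rintro ⟨⟨v, t⟩, ⟨hvh, hvt⟩, rfl⟩
    obtain ⟨ψ, hψ, hψa⟩ := Near.exists_lift a v t hvt
    exact ⟨ψ, by rw [Set.mem_ofPred_eq, hψ]; exact hvh, (key v t ψ hψ hψa hvh).symm⟩

/-- Over some nonzero function, the complex points of an integral affine variety form a
preconnected space. -/
theorem exists_preconnected {ι : Type} [Fintype ι] (s : ι → A) :
    ∃ g : A, g ≠ 0 ∧
      IsPreconnected ((fun (ψ : A →ₐ[ℂ] ℂ) (i : ι) => ψ (s i)) '' {ψ | ψ g ≠ 0}) := by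
  obtain ⟨d, j, hj, hfin⟩ := exists_finite_inj_algHom_of_fg ℂ A
  algebraize [j.toRingHom]
  haveI : IsScalarTower ℂ (MvPolynomial (Fin d) ℂ) A :=
    IsScalarTower.of_algebraMap_eq fun x => (j.commutes x).symm
  haveI : Module.Finite (MvPolynomial (Fin d) ℂ) A := hfin
  haveI : FaithfulSMul (MvPolynomial (Fin d) ℂ) A := (faithfulSMul_iff_algebraMap_injective _ _).2 hj
  exact exists_preconnected_aux (d := d) s

end Groth.Agent.AnPts.Conn
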