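import Mathlib.Analysis.Complex.RemovableSingularity
import Mathlib.Analysis.Complex.Liouville
import Mathlib.Analysis.Complex.Polynomial.Basic
import Mathlib.Algebra.MvPolynomial.Funext
import Mathlib.Topology.Algebra.MvPolynomial
import Mathlib.LinearAlgebra.Lagrange
import Mathlib.Topology.Algebra.Module.Cardinality

/-! A function of several complex variables which is polynomial of bounded degree on lines is
polynomial; a function of one variable, holomorphic off a finite set and of polynomial growth, is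
polynomial. -/

open Polynomial Filter Topology

noncomputable section

namespace Groth.Agent.AnPts.Conn

/-- An entire function of polynomial growth is a polynomial. -/
theorem exists_poly_of_growth (M : ℕ) : ∀ (g : ℂ → ℂ), Differentiable ℂ g → ∀ C : ℝ,
    (∀ s, ‖g s‖ ≤ C * (1 + ‖s‖) ^ M) → ∃ p : ℂ[X], p.natDegree ≤ M ∧ ∀ s, g s = p.eval s := by
  induction M with
  | zero =>
    intro g hg C hC
    refine ⟨Polynomial.C (g 0), (natDegree_C _).le, fun s => ?_⟩
    rw [eval_C]
    refine hg.apply_eq_apply_of_bounded ?_ s 0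
    refine Metric.isBounded_closedBall (x := (0 : ℂ)) (r := C) |>.subset ?_
    rintro _ ⟨z, rfl⟩
    simpa using hC z
  | succ M ih =>
    intro g hg C hC
    have hC0 : 0 ≤ C := by
      have := (norm_nonneg _).trans (hC 0)
      simpa using this
    have h1 : Differentiable ℂ (dslope g 0) := differentiableOn_univ.1
      ((Complex.differentiableOn_dslope (Filter.univ_mem)).2 hg.differentiableOn)
    obtain ⟨B, hB⟩ := (isCompact_closedBall (0 : ℂ) 1).exists_bound_of_continuousOn
      h1.continuous.continuousOn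
    have hbound : ∀ s, ‖dslope g 0 s‖ ≤ max B (2 * (C + ‖g 0‖)) * (1 + ‖s‖) ^ M := fun s => by
      have hpow : (1 : ℝ) ≤ (1 + ‖s‖) ^ M := one_le_pow₀ (by linarith [norm_nonneg s])
      rcases le_or_gt ‖s‖ 1 with hs | hs
      · refine (hB s (by simpa using hs)).trans ((le_max_left _ (2 * (C + ‖g 0‖))).trans ?_)
        exact le_mul_of_one_le_right
          (le_max_of_le_right (by positivity)) hpow
      · have hs0 : s ≠ 0 := fun e => by
          rw [e, norm_zero] at hs; linarith
        rw [dslope_of_ne _ hs0, slope_def_field, sub_zero, norm_div]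
        rw [div_le_iff₀ (by linarith)]
        refine (norm_sub_le _ _).trans ((add_le_add (hC s) le_rfl).trans ?_)
        have h2 : (2 * (C + ‖g 0‖)) * (1 + ‖s‖) ^ M * ‖s‖ ≤
            max B (2 * (C + ‖g 0‖)) * (1 + ‖s‖) ^ M * ‖s‖ := by
          gcongr; exact le_max_right _ _
        refine le_trans ?_ h2
        rw [pow_succ]
        nlinarith [norm_nonneg (g 0), mul_nonneg hC0 (zero_le_one.trans hpow),
          mul_nonneg (norm_nonneg (g 0)) (zero_le_one.trans hpow)]
    obtain ⟨p, hpd, hp⟩ := ih _ h1 _ hbound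
    refine ⟨Polynomial.C (g 0) + X * p, ?_, fun s => ?_⟩
    · refine (natDegree_add_le _ _).trans (max_le (by simp) ?_)
      exact natDegree_mul_le.trans (by rw [natDegree_X]; omega)
    · rw [eval_add, eval_C, eval_mul, eval_X, ← hp]
      have := sub_smul_dslope g 0 s
      simp only [sub_zero, smul_eq_mul] at this
      rw [this]; ring

/-- A function holomorphic off a finite set and of polynomial growth is a polynomial there. -/
theorem exists_poly_of_growth_off {Z : Set ℂ} (hZ : Z.Finite) (f : ℂ → ℂ)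
    (hf : ∀ s ∉ Z, DifferentiableAt ℂ f s) (M : ℕ) (C : ℝ)
    (hC : ∀ s ∉ Z, ‖f s‖ ≤ C * (1 + ‖s‖) ^ M) :
    ∃ p : ℂ[X], p.natDegree ≤ M ∧ ∀ s ∉ Z, f s = p.eval s := by
  let g : ℂ → ℂ := fun s => limUnder (𝓝[≠] s) f
  have hgf : ∀ s ∉ Z, g s = f s := fun s hs =>
    ((hf s hs).continuousAt.tendsto.mono_left nhdsWithin_le_nhds).limUnder_eq
  have hg : Differentiable ℂ g := by
    intro s₀
    have hN : ((Z \ {s₀})ᶜ : Set ℂ) ∈ 𝓝 s₀ :=
      (hZ.sdiff.isClosed.isOpen_compl).mem_nhds (by simp)
    obtain ⟨r, hr, hball⟩ := Metric.nhds_basis_closedBall.mem_iff.1 hN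
    have hmem : ∀ s ∈ Metric.closedBall s₀ r, s ≠ s₀ → s ∉ Z := fun s hs hne hsZ =>
      hball hs ⟨hsZ, hne⟩
    have hd : DifferentiableOn ℂ f (Metric.closedBall s₀ r \ {s₀}) := fun s hs =>
      (hf s (hmem s hs.1 hs.2)).differentiableWithinAt
    obtain ⟨B, hB⟩ := (isCompact_closedBall s₀ r).exists_bound_of_continuousOn
      (f := fun s : ℂ => (C * (1 + ‖s‖) ^ M : ℝ)) (by fun_prop)
    have hb : BddAbove (norm ∘ f '' (Metric.closedBall s₀ r \ {s₀})) := by
      refine ⟨B, ?_⟩
      rintro _ ⟨s, hs, rfl⟩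
      exact ((hC s (hmem s hs.1 hs.2)).trans (le_abs_self _)).trans (hB s hs.1)
    have h := Complex.differentiableOn_update_limUnder_of_bddAbove
      (Metric.closedBall_mem_nhds s₀ hr) hd hb
    refine (h.differentiableAt (Metric.closedBall_mem_nhds s₀ hr)).congr_of_eventuallyEq ?_
    filter_upwards [Metric.closedBall_mem_nhds s₀ hr] with s hs
    by_cases hne : s = s₀
    · subst hne; rw [Function.update_self]
    · rw [Function.update_of_ne hne, hgf s (hmem s hs hne)]
  have hgC : ∀ s, ‖g s‖ ≤ C * (1 + ‖s‖) ^ M := by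
    intro s
    have hd : Dense (Zᶜ : Set ℂ) := hZ.countable.dense_compl ℝ
    exact hd.induction (P := fun s => ‖g s‖ ≤ C * (1 + ‖s‖) ^ M)
      (fun s hs => by rw [hgf s hs]; exact hC s hs)
      (isClosed_le hg.continuous.norm (by fun_prop)) s
  obtain ⟨p, hpd, hp⟩ := exists_poly_of_growth M g hg C hgC
  exact ⟨p, hpd, fun s hs => by rw [← hgf s hs, hp]⟩

/-- A function on a box, polynomial of bounded degree in each variable, is a polynomial. -/
theorem exists_mvPolynomial_of_separately {d M : ℕ} (D : Fin d → Set ℂ) (hD : ∀ i, (D i).Infinite)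
    (f : (Fin d → ℂ) → ℂ)
    (hf : ∀ x ∈ Set.univ.pi D, ∀ i, ∃ p : ℂ[X], p.natDegree ≤ M ∧
      ∀ s ∈ D i, f (Function.update x i s) = p.eval s) :
    ∃ Q : MvPolynomial (Fin d) ℂ, ∀ x ∈ Set.univ.pi D, f x = MvPolynomial.eval x Q := by
  classical
  choose T hTD hT using fun i => (hD i).exists_subset_card_eq (M + 1)
  have key : ∀ (J : Finset (Fin d)), ∀ x₀ ∈ Set.univ.pi D, ∃ Q : MvPolynomial (Fin d) ℂ,
      ∀ x ∈ Set.univ.pi D, (∀ i ∉ J, x i = x₀ i) → f x = MvPolynomial.eval x Q := by
    intro J
    induction J using Finset.induction with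
    | empty =>
      intro x₀ _
      refine ⟨MvPolynomial.C (f x₀), fun x _ hx => ?_⟩
      rw [MvPolynomial.eval_C, funext fun i => hx i (Finset.notMem_empty i)]
    | insert i J hi ih =>
      intro x₀ hx₀
      have hmem : ∀ x ∈ Set.univ.pi D, ∀ a ∈ T i, Function.update x i a ∈ Set.univ.pi D :=
        fun x hx a ha j _ => by
          by_cases hj : j = i
          · subst hj; rw [Function.update_self]; exact hTD j ha
          · rw [Function.update_of_ne hj]; exact hx j trivial
      choose! Q hQ using fun a (ha : a ∈ T i) => ih _ (hmem x₀ hx₀ a ha)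
      refine ⟨∑ a ∈ T i, MvPolynomial.bind₁ (Function.update MvPolynomial.X i (MvPolynomial.C a))
        (Q a) * Polynomial.aeval (MvPolynomial.X i : MvPolynomial (Fin d) ℂ)
          (Lagrange.basis (T i) id a), fun x hx hxJ => ?_⟩
      obtain ⟨p, hpd, hp⟩ := hf x hx i
      have hdeg : p.degree < (T i).card := by
        rw [hT i]
        refine lt_of_le_of_lt degree_le_natDegree ?_
        exact_mod_cast Nat.lt_succ_of_le hpd
      have hinterp := Lagrange.eq_interpolate_of_eval_eq
        (fun a => f (Function.update x i a)) (Set.injOn_id _) hdeg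
        (fun a ha => (hp a (hTD i ha)).symm)
      have hfx : f x = p.eval (x i) := by
        rw [← hp _ (hx i trivial), Function.update_eq_self]
      rw [hfx, hinterp, Lagrange.interpolate_apply, eval_finsetSum, map_sum]
      refine Finset.sum_congr rfl fun a ha => ?_
      rw [eval_mul, eval_C, map_mul]
      congr 1
      · rw [MvPolynomial.eval, MvPolynomial.coe_eval₂Hom, ← MvPolynomial.coe_eval₂Hom,
          MvPolynomial.eval₂Hom_bind₁]
        refine (hQ a ha (Function.update x i a) (hmem x hx a ha) fun j hj => ?_).trans ?_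
        · by_cases hji : j = i
          · subst hji; simp
          · rw [Function.update_of_ne hji, Function.update_of_ne hji,
              hxJ j (by simp [hj, hji])]
        · refine MvPolynomial.eval₂Hom_congr rfl (funext fun j => ?_) rfl
          by_cases hji : j = i
          · subst hji; simp
          · simp [Function.update_of_ne hji]
      · have e := Polynomial.map_aeval_eq_aeval_map (φ := RingHom.id ℂ)
          (ψ := MvPolynomial.eval x) (S := MvPolynomial (Fin d) ℂ) (U := ℂ) (by ext; simp)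
          (Lagrange.basis (T i) id a) (MvPolynomial.X i)
        rw [e, Polynomial.map_id, MvPolynomial.eval_X]
        simp
  have hne : (Set.univ.pi D).Nonempty :=
    Set.univ_pi_nonempty_iff.2 fun i => (hD i).nonempty
  obtain ⟨x₀, hx₀⟩ := hne
  obtain ⟨Q, hQ⟩ := key Finset.univ x₀ hx₀
  exact ⟨Q, fun x hx => hQ x hx fun i hi => absurd (Finset.mem_univ i) hi⟩

/-- A polynomial grows polynomially. -/
theorem exists_growth {d : ℕ} (p : MvPolynomial (Fin d) ℂ) :
    ∃ (C : ℝ) (N : ℕ), 0 ≤ C ∧ ∀ v : Fin d → ℂ, ‖MvPolynomial.eval v p‖ ≤ C * (1 + ‖v‖) ^ N := by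
  induction p using MvPolynomial.induction_on with
  | C a => exact ⟨‖a‖, 0, norm_nonneg _, fun v => by simp⟩
  | add p q hp hq =>
    obtain ⟨C, N, hC, hp⟩ := hp
    obtain ⟨C', N', hC', hq⟩ := hq
    refine ⟨C + C', max N N', by positivity, fun v => ?_⟩
    have h1 : (1 : ℝ) ≤ 1 + ‖v‖ := by linarith [norm_nonneg v]
    rw [map_add, add_mul]
    refine (norm_add_le _ _).trans (add_le_add ((hp v).trans ?_) ((hq v).trans ?_))
    · exact mul_le_mul_of_nonneg_left (pow_le_pow_right₀ h1 (le_max_left _ _)) hC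
    · exact mul_le_mul_of_nonneg_left (pow_le_pow_right₀ h1 (le_max_right _ _)) hC'
  | mul_X p i hp =>
    obtain ⟨C, N, hC, hp⟩ := hp
    refine ⟨C, N + 1, hC, fun v => ?_⟩
    rw [map_mul, MvPolynomial.eval_X, norm_mul, pow_succ, ← mul_assoc]
    exact mul_le_mul (hp v) ((norm_le_pi_norm v i).trans (by linarith)) (norm_nonneg _)
      (by positivity)

end Groth.Agent.AnPts.Conn
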