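import Groth.Agent.AnPts.Conn.Alg
import Mathlib.FieldTheory.KummerPolynomial
import Mathlib.RingTheory.AlgebraicIndependent.Adjoin
import Mathlib.RingTheory.AlgebraicIndependent.TranscendenceBasis
import Mathlib.RingTheory.EssentialFiniteness
import Mathlib.FieldTheory.IntermediateField.Adjoin.Algebra
import Mathlib.RingTheory.AdjoinRoot
import Mathlib.RingTheory.RootsOfUnity.Complex

/-! A regular function with a continuous logarithm on the complex points of an integral affine
variety is constant. -/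

open Polynomial

noncomputable section

namespace Groth.Agent.AnPts.Conn

/-- An element of a finitely generated extension of `ℂ` which is a `p`-th power for all large
primes `p` is constant. -/
theorem mem_range_of_forall_prime_pow {L : Type} [Field L] [Algebra ℂ L] [Algebra.EssFiniteType ℂ L]
    (u : L) (hu : ∀ p : ℕ, p.Prime → ∃ w : L, w ^ p = u) : u ∈ (algebraMap ℂ L).range := by
  by_contra hne
  have htr : Transcendental ℂ u := fun halg => hne (IntermediateField.mem_bot.1 (by
    haveI := IntermediateField.isAlgebraic_adjoin_simple halg.isIntegral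
    rw [← IntermediateField.eq_bot_of_isAlgClosed_of_isAlgebraic (k := ℂ)
      (IntermediateField.adjoin ℂ {u})]
    exact IntermediateField.mem_adjoin_simple_self ℂ u))
  obtain ⟨t, hut, ht⟩ := exists_isTranscendenceBasis_superset (R := ℂ) (s := {u})
    ((algebraicIndependent_singleton_iff (⟨u, rfl⟩ : ({u} : Set L))).2 htr)
  let K : IntermediateField ℂ L := IntermediateField.adjoin ℂ (Set.range ((↑) : t → L))
  haveI : Algebra.IsAlgebraic K L := ht.isAlgebraic_field
  haveI : Algebra.EssFiniteType K L := Algebra.EssFiniteType.of_comp ℂ K L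
  haveI : Module.Finite K L := Algebra.finite_of_essFiniteType_of_isAlgebraic
  obtain ⟨p, hpn, hp⟩ := Nat.exists_infinite_primes (Module.finrank K L + 1)
  have huK : u ∈ K := IntermediateField.subset_adjoin ℂ _ ⟨⟨u, hut rfl⟩, rfl⟩
  have hnp : ∀ b : K, b ^ p ≠ ⟨u, huK⟩ := by
    intro b hb
    let e := ht.1.aevalEquivField
    have h1 : e.symm b ^ p = algebraMap (MvPolynomial t ℂ) _ (MvPolynomial.X ⟨u, hut rfl⟩) := by
      rw [← map_pow, hb, AlgEquiv.symm_apply_eq]
      refine Subtype.ext ?_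
      rw [ht.1.aevalEquivField_algebraMap_apply_coe, MvPolynomial.aeval_X]
    have hint : IsIntegral (MvPolynomial t ℂ) (e.symm b) :=
      IsIntegral.of_pow hp.pos (h1 ▸ isIntegral_algebraMap)
    obtain ⟨q, hq⟩ := IsIntegrallyClosed.isIntegral_iff.1 hint
    rw [← hq, ← map_pow] at h1
    have h2 := congrArg (MvPolynomial.aeval fun _ : t => (X : ℂ[X]))
      (IsFractionRing.injective (MvPolynomial t ℂ) _ h1)
    rw [map_pow, MvPolynomial.aeval_X] at h2
    have h3 := congrArg natDegree h2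
    rw [natDegree_pow, natDegree_X] at h3
    have := hp.two_le
    rcases Nat.eq_one_of_mul_eq_one_right h3 with h4
    omega
  obtain ⟨w, hw⟩ := hu p hp
  have hirr := X_pow_sub_C_irreducible_of_prime hp hnp
  have hmin : minpoly K w = X ^ p - C (⟨u, huK⟩ : K) :=
    (minpoly.eq_of_irreducible_of_monic hirr
      (by rw [map_sub, map_pow, aeval_X, aeval_C, hw]; exact sub_self u)
      (monic_X_pow_sub_C _ hp.ne_zero)).symm
  have := minpoly.natDegree_le (A := K) w
  rw [hmin, natDegree_X_pow_sub_C] at this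
  omega

variable {A : Type} [CommRing A] [IsDomain A] [Algebra ℂ A] [Algebra.FiniteType ℂ A]

/-- If a function has a continuous logarithm on complex points then it is a `p`-th power. -/
theorem exists_root {ι : Type} [Fintype ι] (s : ι → A) (u : A) (hu : u ≠ 0)
    (G : (ι → ℂ) → ℂ) (hG : ContinuousOn G (Set.range fun (φ : A →ₐ[ℂ] ℂ) (i : ι) => φ (s i)))
    (hGu : ∀ φ : A →ₐ[ℂ] ℂ, Complex.exp (G fun i => φ (s i)) = φ u) (p : ℕ) (hp : p.Prime) :
    ∃ w : FractionRing A, w ^ p = algebraMap A _ u := by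
  classical
  by_contra! hne
  haveI : NeZero p := ⟨hp.ne_zero⟩
  let L := FractionRing A
  let f : A[X] := X ^ p - C u
  have hf : f.Monic := monic_X_pow_sub_C u hp.ne_zero
  have hfL : Irreducible (f.map (algebraMap A L)) := by
    simp only [f, Polynomial.map_sub, Polynomial.map_pow, map_X, map_C]
    exact X_pow_sub_C_irreducible_of_prime hp hne
  have hprime : (Ideal.span {f}).IsPrime := by
    have e : Ideal.span {f} = (Ideal.span {f.map (algebraMap A L)}).comap (mapRingHom (algebraMap A L)) := by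
      ext g
      simp only [Ideal.mem_comap, Ideal.mem_span_singleton, coe_mapRingHom]
      exact (map_dvd_map _ (IsFractionRing.injective A L) hf).symm
    rw [e]
    haveI : (Ideal.span {f.map (algebraMap A L)}).IsPrime :=
      (Ideal.span_singleton_prime hfL.ne_zero).2 hfL.prime
    exact Ideal.IsPrime.comap _
  haveI : IsDomain (AdjoinRoot f) := Ideal.Quotient.isDomain (Ideal.span {f})
  haveI : Algebra.FiniteType ℂ (AdjoinRoot f) :=
    Algebra.FiniteType.of_surjective ((AdjoinRoot.mkₐ f).restrictScalars ℂ) AdjoinRoot.mk_surjective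
  let σ : Option ι → AdjoinRoot f := fun o => o.elim (AdjoinRoot.root f) fun i => AdjoinRoot.of f (s i)
  obtain ⟨g, hg, hpre⟩ := exists_preconnected σ
  haveI : Module.Finite A (AdjoinRoot f) := hf.finite_adjoinRoot
  obtain ⟨a, ha, ha0⟩ := Submodule.exists_mem_ne_zero_of_ne_bot
    (Ideal.comap_ne_bot_of_integral_mem (R := A) hg
      (Ideal.mem_span_singleton_self g) (Algebra.IsIntegral.isIntegral g))
  obtain ⟨M, hM, haM⟩ : ∃ M : Ideal A, M.IsMaximal ∧ a ∉ M := by
    haveI : IsJacobsonRing A := isJacobsonRing_of_finiteType (A := ℂ)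
    have h0 : a ∉ (⊥ : Ideal A).jacobson := by
      rw [← Ideal.radical_eq_jacobson, (Ideal.isPrime_bot).radical]
      simpa using ha0
    rw [Ideal.jacobson, Ideal.mem_sInf] at h0
    push Not at h0
    obtain ⟨M, ⟨-, hM⟩, haM⟩ := h0
    exact ⟨M, hM, haM⟩
  haveI := hM
  obtain ⟨φ, hφ⟩ := Near.exists_algHom_of_isMaximal M
  have hφa : φ a ≠ 0 := fun e => by
    have hker : RingHom.ker φ.toRingHom = M :=
      (hM.eq_of_le (RingHom.ker_ne_top φ.toRingHom) fun x hx => RingHom.mem_ker.2 (hφ x hx)).symm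
    exact haM (hker ▸ RingHom.mem_ker.2 e)
  have hlift : ∀ t : ℂ, t ^ p = φ u → ∃ ψ : AdjoinRoot f →ₐ[ℂ] ℂ,
      (∀ x, ψ (AdjoinRoot.of f x) = φ x) ∧ ψ (AdjoinRoot.root f) = t := fun t ht => by
    have he : f.eval₂ (φ : A →+* ℂ) t = 0 := by simp [f, ht]
    refine ⟨{ AdjoinRoot.lift (φ : A →+* ℂ) t he with commutes' := fun c => ?_ },
      fun x => AdjoinRoot.lift_of he, AdjoinRoot.lift_root he⟩
    change AdjoinRoot.lift _ t he (AdjoinRoot.of f (algebraMap ℂ A c)) = c
    rw [AdjoinRoot.lift_of]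
    exact φ.commutes c
  have hgψ : ∀ ψ : AdjoinRoot f →ₐ[ℂ] ℂ, (∀ x, ψ (AdjoinRoot.of f x) = φ x) → ψ g ≠ 0 := by
    intro ψ hψ e
    obtain ⟨q, hq⟩ := Ideal.mem_span_singleton'.1 ha
    have h1 := congrArg ψ hq
    rw [map_mul, e, mul_zero, AdjoinRoot.algebraMap_eq] at h1
    exact hφa ((hψ a).symm.trans h1.symm)
  let c : (Option ι → ℂ) → ℂ := fun z =>
    z none / Complex.exp (G (fun i => z (some i)) / p)
  set T := (fun (ψ : AdjoinRoot f →ₐ[ℂ] ℂ) (o : Option ι) => ψ (σ o)) '' {ψ | ψ g ≠ 0}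
  have hc : ContinuousOn c T := by
    refine ContinuousOn.div (continuous_apply none).continuousOn
      ((hG.comp (continuous_pi fun i => continuous_apply (some i)).continuousOn ?_).div_const _).cexp
      fun z _ => Complex.exp_ne_zero _
    rintro _ ⟨ψ, -, rfl⟩
    exact ⟨ψ.comp ((Algebra.ofId A (AdjoinRoot f)).restrictScalars ℂ), rfl⟩
  have hfin : ∀ z ∈ T, c z ^ p = 1 := by
    rintro _ ⟨ψ, -, rfl⟩
    let φ' : A →ₐ[ℂ] ℂ := ψ.comp ((Algebra.ofId A (AdjoinRoot f)).restrictScalars ℂ)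
    have hr : ψ (AdjoinRoot.root f) ^ p = φ' u := by
      rw [← map_pow]
      change ψ (AdjoinRoot.root f ^ p) = ψ (AdjoinRoot.of f u)
      congr 1
      have := AdjoinRoot.eval₂_root f
      rw [eval₂_sub, eval₂_X_pow, eval₂_C, sub_eq_zero] at this
      exact this
    have hp0 : (p : ℂ) ≠ 0 := Nat.cast_ne_zero.2 hp.ne_zero
    simp only [c, div_pow]
    rw [← Complex.exp_nat_mul, mul_div_cancel₀ _ hp0]
    change ψ (AdjoinRoot.root f) ^ p / Complex.exp (G fun i => φ' (s i)) = 1
    rw [hr, hGu φ', div_self]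
    rw [← hGu]; exact Complex.exp_ne_zero _
  have hsub : (c '' T).Finite := by
    refine Set.Finite.subset (finite_setOf_isRoot (X_pow_sub_C_ne_zero hp.pos (1 : ℂ))) ?_
    rintro _ ⟨z, hz, rfl⟩
    simp [hfin z hz]
  have hconst : (c '' T).Subsingleton := by
    haveI := isPreconnected_iff_preconnectedSpace.1 (hpre.image c hc)
    haveI := hsub.to_subtype
    rw [← Set.subsingleton_coe]
    exact ⟨fun a b => ((Set.ext_iff.1 ((isClopen_discrete {a}).eq_univ
      (Set.singleton_nonempty a)) b).2 trivial).symm⟩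
  obtain ⟨t, ht⟩ := IsAlgClosed.exists_pow_nat_eq (φ u) hp.pos
  obtain ⟨ζ, hζ⟩ : ∃ ζ : ℂ, IsPrimitiveRoot ζ p := ⟨_, Complex.isPrimitiveRoot_exp p hp.ne_zero⟩
  have hu0 : φ u ≠ 0 := by rw [← hGu]; exact Complex.exp_ne_zero _
  have ht0 : t ≠ 0 := fun e => hu0 (by rw [← ht, e, zero_pow hp.ne_zero])
  obtain ⟨ψ₁, h₁, h₁'⟩ := hlift t ht
  obtain ⟨ψ₂, h₂, h₂'⟩ := hlift (ζ * t) (by rw [mul_pow, hζ.pow_eq_one, one_mul, ht])
  have h := hconst ⟨_, ⟨ψ₁, hgψ ψ₁ h₁, rfl⟩, rfl⟩ ⟨_, ⟨ψ₂, hgψ ψ₂ h₂, rfl⟩, rfl⟩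
  simp only [c, σ, Option.elim_none, Option.elim_some, h₁, h₂, h₁', h₂'] at h
  rw [div_eq_div_iff (Complex.exp_ne_zero _) (Complex.exp_ne_zero _)] at h
  have := mul_right_cancel₀ (Complex.exp_ne_zero _) h
  exact hζ.ne_one hp.one_lt (mul_right_cancel₀ ht0 (this.symm.trans (one_mul t).symm))

/-- A regular function with a continuous logarithm on complex points is constant. -/
theorem mem_range_of_log {ι : Type} [Fintype ι] (s : ι → A) (u : A) (hu : u ≠ 0)
    (G : (ι → ℂ) → ℂ) (hG : ContinuousOn G (Set.range fun (φ : A →ₐ[ℂ] ℂ) (i : ι) => φ (s i)))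
    (hGu : ∀ φ : A →ₐ[ℂ] ℂ, Complex.exp (G fun i => φ (s i)) = φ u) :
    u ∈ (algebraMap ℂ A).range := by
  haveI : Algebra.EssFiniteType A (FractionRing A) :=
    Algebra.EssFiniteType.of_isLocalization (FractionRing A) (nonZeroDivisors A)
  haveI : Algebra.EssFiniteType ℂ (FractionRing A) := Algebra.EssFiniteType.comp ℂ A (FractionRing A)
  obtain ⟨c, hc⟩ := mem_range_of_forall_prime_pow (algebraMap A (FractionRing A) u)
    (exists_root s u hu G hG hGu)
  exact ⟨c, IsFractionRing.injective A (FractionRing A) (by rw [← IsScalarTower.algebraMap_apply]; exact hc)⟩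

end Groth.Agent.AnPts.Conn
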