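import Groth.Agent.AnPts.Conn.OneVar
import Groth.Agent.AnPts.Near
import Mathlib.Analysis.Normed.Module.Connected
import Mathlib.Analysis.Calculus.Deriv.Slope
import Mathlib.Algebra.Polynomial.Taylor
import Mathlib.Topology.LocallyConstant.Basic

/-! The zero set of an irreducible monic polynomial over an open set where its roots are simple is
connected. -/

open Polynomial Filter Topology

noncomputable section

namespace Groth.Agent.AnPts.Conn

local notation "ℙ" d => MvPolynomial (Fin d) ℂ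

variable {d : ℕ}

/-- The specialisation of a polynomial. -/
abbrev sp (m : Polynomial (ℙ d)) (v : Fin d → ℂ) : ℂ[X] := m.map (MvPolynomial.eval v)

theorem continuous_sp_eval (m : Polynomial (ℙ d)) :
    Continuous fun p : (Fin d → ℂ) × ℂ => (sp m p.1).eval p.2 := by
  simp_rw [sp, eval_map, eval₂_eq_sum_range]
  exact continuous_finsetSum _ fun i _ =>
    ((MvPolynomial.continuous_eval _).comp continuous_fst).mul (continuous_snd.pow i)

variable {m : Polynomial (ℙ d)} {h : ℙ d} (hm : m.Monic)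
  (hsep : ∀ v, MvPolynomial.eval v h ≠ 0 → ∀ t, (sp m v).eval t = 0 →
    (sp m v).derivative.eval t ≠ 0)

section

include hm

theorem exists_root_near {v₀ : Fin d → ℂ} {t : ℂ} (ht : (sp m v₀).eval t = 0) {ε : ℝ}
    (hε : 0 < ε) : ∀ᶠ v in 𝓝 v₀, ∃ u, (sp m v).eval u = 0 ∧ ‖u - t‖ < ε := by
  have hd : 0 < (sp m v₀).natDegree := by
    by_contra hd
    have h1 : sp m v₀ = 1 := (hm.map _).natDegree_eq_zero.1 (Nat.eq_zero_of_not_pos hd)
    rw [h1] at ht
    simp at ht
  have hdeg : ∀ v, (sp m v).natDegree = m.natDegree := fun v => hm.natDegree_map _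
  rw [hdeg] at hd
  have hc : Continuous fun v => (sp m v).eval t :=
    (continuous_sp_eval m).comp (continuous_id.prodMk continuous_const)
  have hev : ∀ᶠ v in 𝓝 v₀, ‖(sp m v).eval t‖ < ε ^ m.natDegree :=
    hc.norm.continuousAt.eventually_lt continuousAt_const (by rw [ht, norm_zero]; exact pow_pos hε _)
  filter_upwards [hev] with v hv
  obtain ⟨r, hr, hr'⟩ := Near.exists_small_root (p := taylor t (sp m v))
    (by rw [Monic, leadingCoeff_taylor]; exact (hm.map _).leadingCoeff)
    (by rwa [natDegree_taylor, hdeg]) hε (by rwa [taylor_coeff_zero, natDegree_taylor, hdeg])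
  refine ⟨r + t, ?_, by simpa using hr'⟩
  rwa [taylor_eval] at hr

include hsep

theorem card_roots {v : Fin d → ℂ} (hv : MvPolynomial.eval v h ≠ 0) :
    (sp m v).roots.toFinset.card = m.natDegree := by
  classical
  have hne : sp m v ≠ 0 := (hm.map _).ne_zero
  have hnd : (sp m v).roots.Nodup := by
    rw [Multiset.nodup_iff_count_le_one]
    intro t
    rw [count_roots]
    by_contra hlt
    obtain ⟨h0, h1⟩ := (one_lt_rootMultiplicity_iff_isRoot hne).1 (not_le.1 hlt)
    exact hsep v hv t h0 h1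
  rw [Multiset.toFinset_card_of_nodup hnd,
    ← (IsAlgClosed.splits (sp m v)).natDegree_eq_card_roots, hm.natDegree_map]

/-- Local continuous sections through the roots. -/
theorem exists_local_sections {v₀ : Fin d → ℂ} (hv₀ : MvPolynomial.eval v₀ h ≠ 0) :
    ∃ lam : ℂ → (Fin d → ℂ) → ℂ,
      (∀ t ∈ (sp m v₀).roots.toFinset, lam t v₀ = t ∧ ContinuousAt (lam t) v₀) ∧
      ∀ᶠ v in 𝓝 v₀, MvPolynomial.eval v h ≠ 0 ∧
        Set.InjOn (fun t => lam t v) ((sp m v₀).roots.toFinset : Set ℂ) ∧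
        (sp m v).roots.toFinset = (sp m v₀).roots.toFinset.image (fun t => lam t v) := by
  classical
  set S := (sp m v₀).roots.toFinset with hS
  have hroot : ∀ v u, u ∈ (sp m v).roots.toFinset ↔ (sp m v).eval u = 0 := fun v u => by
    rw [Multiset.mem_toFinset, mem_roots (hm.map _).ne_zero, IsRoot.def]
  obtain ⟨r, hr, hsp⟩ : ∃ r > 0, ∀ t ∈ S, ∀ t' ∈ S, t ≠ t' → 2 * r ≤ ‖t - t'‖ := by
    have hev : ∀ᶠ r : ℝ in 𝓝[>] 0, ∀ p ∈ S ×ˢ S, p.1 ≠ p.2 → 2 * r ≤ ‖p.1 - p.2‖ := by
      refine (Finset.eventually_all _).2 fun p _ => ?_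
      by_cases hp : p.1 = p.2
      · exact .of_forall fun r hne => absurd hp hne
      · have : ∀ᶠ r : ℝ in 𝓝 0, 2 * r ≤ ‖p.1 - p.2‖ :=
          ((continuous_const.mul continuous_id).continuousAt.eventually_lt continuousAt_const
            (by simpa using sub_ne_zero.2 hp)).mono fun r hr => hr.le
        exact (this.filter_mono nhdsWithin_le_nhds).mono fun r hr _ => hr
    obtain ⟨r, h1, h2⟩ := (hev.and self_mem_nhdsWithin).exists
    exact ⟨r, h2, fun t ht t' ht' => h1 (t, t') (Finset.mem_product.2 ⟨ht, ht'⟩)⟩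
  let lam : ℂ → (Fin d → ℂ) → ℂ := fun t v =>
    if h : ∃ u, (sp m v).eval u = 0 ∧ ‖u - t‖ < r then h.choose else t
  have hlam : ∀ t v, (∃ u, (sp m v).eval u = 0 ∧ ‖u - t‖ < r) →
      (sp m v).eval (lam t v) = 0 ∧ ‖lam t v - t‖ < r := fun t v he => by
    simp only [lam, dif_pos he]; exact he.choose_spec
  have hinj : ∀ v, (∀ t ∈ S, ∃ u, (sp m v).eval u = 0 ∧ ‖u - t‖ < r) →
      Set.InjOn (fun t => lam t v) (S : Set ℂ) := by
    intro v hv t ht t' ht' e
    by_contra hne
    have h1 := (hlam t v (hv t ht)).2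
    have h2 := (hlam t' v (hv t' ht')).2
    rw [show lam t v = lam t' v from e] at h1
    have := norm_sub_le_norm_sub_add_norm_sub t (lam t' v) t'
    rw [norm_sub_rev t (lam t' v)] at this
    linarith [hsp t ht t' ht' hne]
  have himg : ∀ v, MvPolynomial.eval v h ≠ 0 →
      (∀ t ∈ S, ∃ u, (sp m v).eval u = 0 ∧ ‖u - t‖ < r) →
      (sp m v).roots.toFinset = S.image (fun t => lam t v) := by
    intro v hvh hv
    refine (Finset.eq_of_subset_of_card_le ?_ ?_).symm
    · intro u hu
      obtain ⟨t, ht, rfl⟩ := Finset.mem_image.1 hu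
      exact (hroot v _).2 (hlam t v (hv t ht)).1
    · rw [Finset.card_image_of_injOn (hinj v hv), hS, card_roots hm hsep hvh,
        card_roots hm hsep hv₀]
  have hex : ∀ᶠ v in 𝓝 v₀, ∀ t ∈ S, ∃ u, (sp m v).eval u = 0 ∧ ‖u - t‖ < r :=
    (Finset.eventually_all S).2 fun t ht => exists_root_near hm ((hroot v₀ t).1 ht) hr
  have hV : ∀ᶠ v in 𝓝 v₀, MvPolynomial.eval v h ≠ 0 :=
    (MvPolynomial.continuous_eval h).continuousAt.eventually_ne hv₀
  have hclose : ∀ v, MvPolynomial.eval v h ≠ 0 →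
      (∀ t ∈ S, ∃ u, (sp m v).eval u = 0 ∧ ‖u - t‖ < r) →
      ∀ t ∈ S, ∀ u, (sp m v).eval u = 0 → ‖u - t‖ < r → lam t v = u := by
    intro v hvh hv t ht u hu hut
    have hu' : u ∈ S.image (fun t => lam t v) := by rw [← himg v hvh hv]; exact (hroot v u).2 hu
    obtain ⟨t', ht', rfl⟩ := Finset.mem_image.1 hu'
    by_contra hne
    have htt : t ≠ t' := fun e => hne (e ▸ rfl)
    have h2 := (hlam t' v (hv t' ht')).2
    have := norm_sub_le_norm_sub_add_norm_sub t (lam t' v) t'
    rw [norm_sub_rev t (lam t' v)] at this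
    linarith [hsp t ht t' ht' htt]
  refine ⟨lam, fun t ht => ?_, ?_⟩
  · have h0 : lam t v₀ = t := hclose v₀ hv₀ hex.self_of_nhds t ht t ((hroot v₀ t).1 ht)
      (by simpa using hr)
    refine ⟨h0, Metric.continuousAt_iff'.2 fun ε hε => ?_⟩
    filter_upwards [hV, hex, exists_root_near hm ((hroot v₀ t).1 ht) (lt_min hε hr)]
      with v hvh hv hu
    obtain ⟨u, hu, hut⟩ := hu
    rw [h0, hclose v hvh hv t ht u hu (hut.trans_le (min_le_right _ _)), Complex.dist_eq]
    exact hut.trans_le (min_le_left _ _)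
  · filter_upwards [hV, hex] with v hvh hv
    exact ⟨hvh, hinj v hv, himg v hvh hv⟩

end

/-- A continuous root of a polynomial family is differentiable where it is simple. -/
theorem differentiableAt_root (M : Polynomial (Polynomial ℂ)) {μ : ℂ → ℂ} (hμ : ContinuousAt μ 0)
    (h0 : ∀ᶠ s in 𝓝 (0 : ℂ), (M.map (evalRingHom s)).eval (μ s) = 0)
    (hd : (M.map (evalRingHom 0)).derivative.eval (μ 0) ≠ 0) : DifferentiableAt ℂ μ 0 := by
  set t := μ 0 with ht
  let B : ℂ → ℂ → ℂ := fun s u => ∑ k ∈ Finset.range (M.natDegree + 1),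
    (M.coeff k).eval s * ∑ i ∈ Finset.range k, u ^ i * t ^ (k - 1 - i)
  let E : ℂ[X] := M.eval (Polynomial.C t)
  have hM : ∀ s u, (M.map (evalRingHom s)).eval u =
      ∑ k ∈ Finset.range (M.natDegree + 1), (M.coeff k).eval s * u ^ k := fun s u => by
    rw [eval_map, eval₂_eq_sum_range]; rfl
  have hE : ∀ s, E.eval s = (M.map (evalRingHom s)).eval t := fun s => by
    rw [hM]
    change (M.eval (Polynomial.C t)).eval s = _
    rw [eval_eq_sum_range (p := M), eval_finsetSum]
    simp
  have hE0 : E.eval 0 = 0 := by rw [hE]; exact h0.self_of_nhds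
  have hsplit : ∀ s u, (M.map (evalRingHom s)).eval u = B s u * (u - t) + E.divX.eval s * s := by
    intro s u
    have h1 : E.divX.eval s * s = E.eval s := by
      conv_rhs => rw [← X_mul_divX_add E]
      simp [coeff_zero_eq_eval_zero, hE0, mul_comm]
    rw [h1, hE, hM, hM, Finset.sum_mul, ← Finset.sum_add_distrib]
    refine Finset.sum_congr rfl fun k _ => ?_
    rw [mul_assoc, geom_sum₂_mul, ← mul_add, sub_add_cancel]
  have hB0 : B 0 t ≠ 0 := by
    refine ne_of_eq_of_ne ?_ hd
    rw [derivative_map, eval_map, derivative_apply,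
      Polynomial.sum_over_range _ (by simp), eval₂_finsetSum]
    refine Finset.sum_congr rfl fun k _ => ?_
    rw [geom_sum₂_self, eval₂_mul, eval₂_X_pow, eval₂_C, map_mul, map_natCast, coe_evalRingHom]
    ring
  have hBc : ContinuousAt (fun s => B s (μ s)) 0 := by
    simp only [B]
    exact tendsto_finsetSum _ fun k _ => ((Polynomial.continuous_aeval (M.coeff k)).continuousAt.congr
      (.of_forall fun s => by simp)).mul (tendsto_finsetSum _ fun i _ => (hμ.pow i).mul tendsto_const_nhds)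
  have hne : ∀ᶠ s in 𝓝 (0 : ℂ), B s (μ s) ≠ 0 := hBc.eventually_ne hB0
  refine HasDerivAt.differentiableAt (f' := -(E.divX.eval 0) / B 0 t) ?_
  rw [hasDerivAt_iff_tendsto_slope]
  have hlim : Tendsto (fun s => -(E.divX.eval s) / B s (μ s)) (𝓝[≠] 0)
      (𝓝 (-(E.divX.eval 0) / B 0 t)) :=
    ((E.divX.continuous.continuousAt.neg).div hBc hB0).tendsto.mono_left nhdsWithin_le_nhds
  refine hlim.congr' ?_
  filter_upwards [nhdsWithin_le_nhds h0, nhdsWithin_le_nhds hne, self_mem_nhdsWithin]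
    with s hs hsB hs0
  rw [hsplit] at hs
  have hs0' : s ≠ 0 := hs0
  rw [slope_def_field, sub_zero, ← ht]
  field_simp
  linear_combination -hs

theorem norm_coeff_prod_le (S : Finset ℂ) {R : ℝ} (hR : ∀ t ∈ S, 1 + ‖t‖ ≤ R) :
    ∀ j, ‖(∏ t ∈ S, (X - C t)).coeff j‖ ≤ R ^ S.card := by
  classical
  induction S using Finset.induction with
  | empty => intro j; rw [Finset.prod_empty, coeff_one]; split_ifs <;> simp
  | insert a S ha ih =>
    intro j
    have hR0 : 0 ≤ R ^ S.card := (norm_nonneg _).trans (ih (fun t ht => hR t (Finset.mem_insert_of_mem ht)) 0)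
    have ih' := ih (fun t ht => hR t (Finset.mem_insert_of_mem ht))
    have hRa := hR a (Finset.mem_insert_self a S)
    rw [Finset.prod_insert ha, Finset.card_insert_of_notMem ha, pow_succ, sub_mul, coeff_sub,
      coeff_C_mul, mul_comm (R ^ S.card)]
    refine (norm_sub_le _ _).trans (le_trans ?_ (mul_le_mul_of_nonneg_right hRa hR0))
    rw [add_mul, one_mul, norm_mul]
    refine add_le_add ?_ (mul_le_mul_of_nonneg_left (ih' j) (norm_nonneg _))
    rcases j with _ | j
    · simpa using hR0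
    · rw [coeff_X_mul]; exact ih' j

end Groth.Agent.AnPts.Conn
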