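import Groth.Agent.AnPts.Conn.RootSplit

/-! Connectedness of the zero set of an irreducible monic polynomial. -/

open Polynomial Filter Topology

noncomputable section

namespace Groth.Agent.AnPts.Conn

local notation "ℙ" d => MvPolynomial (Fin d) ℂ

variable {d : ℕ}

/-- The line through `v` in the direction `w`. -/
def line (v w : Fin d → ℂ) (s : ℂ) : Fin d → ℂ := fun i => v i + s * w i

theorem continuous_line (v w : Fin d → ℂ) : Continuous (line v w) :=
  continuous_pi fun i => continuous_const.add (continuous_id.mul continuous_const)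

theorem eval_line (p : ℙ d) (v w : Fin d → ℂ) (s : ℂ) :
    MvPolynomial.eval (line v w s) p =
      (MvPolynomial.aeval (fun i => C (v i) + X * C (w i)) p).eval s := by
  change MvPolynomial.eval (line v w s) p = ((evalRingHom s).comp
    (MvPolynomial.aeval fun i => C (v i) + X * C (w i)).toRingHom) p
  refine DFunLike.congr_fun ?_ p
  refine MvPolynomial.ringHom_ext (fun r => ?_) (fun i => ?_) 
  · simp
  · simp [line]; ring

theorem finite_zeros (p : ℙ d) (v w : Fin d → ℂ) (hv : MvPolynomial.eval v p ≠ 0) :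
    {s : ℂ | MvPolynomial.eval (line v w s) p = 0}.Finite := by
  set q := MvPolynomial.aeval (fun i => C (v i) + X * C (w i)) p with hq
  have h0 : line v w 0 = v := by funext i; simp [line]
  have hne : q ≠ 0 := fun e => hv (by rw [← h0, eval_line, ← hq, e, eval_zero])
  refine (finite_setOf_isRoot hne).subset fun s hs => ?_
  have hs' : MvPolynomial.eval (line v w s) p = 0 := hs
  rw [eval_line] at hs'
  exact hs'

theorem isPreconnected_nonvanishing (p : ℙ d) :
    IsPreconnected {v : Fin d → ℂ | MvPolynomial.eval v p ≠ 0} := by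
  refine isPreconnected_of_forall_pair fun a ha b hb => ?_
  have hfin := finite_zeros p a (b - a) ha
  refine ⟨line a (b - a) '' {s : ℂ | MvPolynomial.eval (line a (b - a) s) p = 0}ᶜ, ?_, ?_, ?_, ?_⟩
  · rintro _ ⟨s, hs, rfl⟩; exact hs
  · have e : line a (b - a) 0 = a := by funext i; simp [line]
    exact ⟨0, by simp only [Set.mem_compl_iff, Set.mem_ofPred_eq, e]; exact ha, e⟩
  · have e : line a (b - a) 1 = b := by funext i; simp [line]
    exact ⟨1, by simp only [Set.mem_compl_iff, Set.mem_ofPred_eq, e]; exact hb, e⟩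
  · exact (hfin.countable.isPathConnected_compl_of_one_lt_rank
      (by rw [Complex.rank_real_complex]; exact Cardinal.one_lt_two)).isConnected.isPreconnected.image _
        (continuous_line _ _).continuousOn

variable {m : Polynomial (ℙ d)} {h : ℙ d} (hm : m.Monic)
  (hsep : ∀ v, MvPolynomial.eval v h ≠ 0 → ∀ t, (sp m v).eval t = 0 →
    (sp m v).derivative.eval t ≠ 0)

/-- The roots over `v` lying in `O`. -/
def rootsIn (m : Polynomial (ℙ d)) (O : Set ((Fin d → ℂ) × ℂ)) (v : Fin d → ℂ) : Finset ℂ := by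
  classical
  exact (sp m v).roots.toFinset.filter fun t => (v, t) ∈ O

theorem mem_rootsIn (hm : m.Monic) {O : Set ((Fin d → ℂ) × ℂ)} {v : Fin d → ℂ} {t : ℂ} :
    t ∈ rootsIn m O v ↔ (sp m v).eval t = 0 ∧ (v, t) ∈ O := by
  classical
  simp [rootsIn, mem_roots (hm.map (MvPolynomial.eval v)).ne_zero]

/-- The factor of the roots lying in `O`. -/
def factor (m : Polynomial (ℙ d)) (O : Set ((Fin d → ℂ) × ℂ)) (v : Fin d → ℂ) : ℂ[X] :=
  ∏ t ∈ rootsIn m O v, (X - C t)

variable {O₁ O₂ : Set ((Fin d → ℂ) × ℂ)} (h₁ : IsOpen O₁) (h₂ : IsOpen O₂)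
  (hcov : ∀ v t, MvPolynomial.eval v h ≠ 0 → (sp m v).eval t = 0 → (v, t) ∈ O₁ ∨ (v, t) ∈ O₂)
  (hdisj : ∀ v t, MvPolynomial.eval v h ≠ 0 → (sp m v).eval t = 0 → (v, t) ∈ O₁ → (v, t) ∉ O₂)

include hm hsep h₁ h₂ hcov hdisj

theorem rootsIn_local {v₀ : Fin d → ℂ} (hv₀ : MvPolynomial.eval v₀ h ≠ 0) :
    ∃ lam : ℂ → (Fin d → ℂ) → ℂ,
      (∀ t ∈ rootsIn m O₁ v₀, lam t v₀ = t ∧ ContinuousAt (lam t) v₀) ∧
      ∀ᶠ v in 𝓝 v₀, MvPolynomial.eval v h ≠ 0 ∧
        Set.InjOn (fun t => lam t v) (rootsIn m O₁ v₀ : Set ℂ) ∧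
        (∀ t ∈ rootsIn m O₁ v₀, (sp m v).eval (lam t v) = 0) ∧
        rootsIn m O₁ v = (rootsIn m O₁ v₀).image (fun t => lam t v) := by
  classical
  obtain ⟨lam, hl, hev⟩ := exists_local_sections hm hsep hv₀
  set S := (sp m v₀).roots.toFinset
  have hmemS : ∀ t, t ∈ S ↔ (sp m v₀).eval t = 0 := fun t => by
    rw [Multiset.mem_toFinset, mem_roots (hm.map _).ne_zero, IsRoot.def]
  have hO : ∀ᶠ v in 𝓝 v₀, ∀ t ∈ S,
      ((v₀, t) ∈ O₁ → (v, lam t v) ∈ O₁) ∧ ((v₀, t) ∈ O₂ → (v, lam t v) ∈ O₂) := by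
    refine (Finset.eventually_all S).2 fun t ht => ?_
    have hc : Tendsto (fun v => (v, lam t v)) (𝓝 v₀) (𝓝 (v₀, t)) := by
      have := (continuousAt_id.prodMk (hl t ht).2).tendsto
      rwa [(hl t ht).1] at this
    refine Filter.Eventually.and ?_ ?_
    · by_cases h' : (v₀, t) ∈ O₁
      · exact (hc.eventually (h₁.mem_nhds h')).mono fun v hv _ => hv
      · exact .of_forall fun v e => absurd e h'
    · by_cases h' : (v₀, t) ∈ O₂
      · exact (hc.eventually (h₂.mem_nhds h')).mono fun v hv _ => hv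
      · exact .of_forall fun v e => absurd e h'
  refine ⟨lam, fun t ht => hl t ((hmemS t).2 ((mem_rootsIn hm).1 ht).1), ?_⟩
  filter_upwards [hev, hO] with v ⟨hvh, hinj, himg⟩ hv
  have hroot : ∀ t ∈ S, (sp m v).eval (lam t v) = 0 := fun t ht => by
    have : lam t v ∈ (sp m v).roots.toFinset := himg ▸ Finset.mem_image_of_mem _ ht
    rwa [Multiset.mem_toFinset, mem_roots (hm.map _).ne_zero, IsRoot.def] at this
  have hsub : ∀ t ∈ rootsIn m O₁ v₀, t ∈ S := fun t ht => (hmemS t).2 ((mem_rootsIn hm).1 ht).1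
  refine ⟨hvh, hinj.mono fun t ht => hsub t ht, fun t ht => hroot t (hsub t ht), ?_⟩
  ext u
  rw [Finset.mem_image, mem_rootsIn hm]
  refine ⟨fun ⟨hu, huO⟩ => ?_, ?_⟩
  · have hu' : u ∈ S.image (fun t => lam t v) := by
      rw [← himg, Multiset.mem_toFinset, mem_roots (hm.map _).ne_zero]; exact hu
    obtain ⟨t, ht, rfl⟩ := Finset.mem_image.1 hu'
    refine ⟨t, (mem_rootsIn hm).2 ⟨(hmemS t).1 ht, ?_⟩, rfl⟩
    exact (hcov v₀ t hv₀ ((hmemS t).1 ht)).resolve_right fun h' =>
      hdisj v _ hvh hu huO ((hv t ht).2 h')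
  · rintro ⟨t, ht, rfl⟩
    exact ⟨hroot t (hsub t ht), (hv t (hsub t ht)).1 ((mem_rootsIn hm).1 ht).2⟩

theorem card_rootsIn_eq {v w : Fin d → ℂ} (hv : MvPolynomial.eval v h ≠ 0)
    (hw : MvPolynomial.eval w h ≠ 0) : (rootsIn m O₁ v).card = (rootsIn m O₁ w).card := by
  refine (isPreconnected_nonvanishing h).constant (f := fun v => (rootsIn m O₁ v).card)
    (fun v₀ hv₀ => ContinuousAt.continuousWithinAt ?_) hv hw
  classical
  obtain ⟨lam, -, hev⟩ := rootsIn_local hm hsep h₁ h₂ hcov hdisj hv₀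
  refine (continuousAt_const (y := (rootsIn m O₁ v₀).card)).congr ?_
  filter_upwards [hev] with u ⟨_, hinj, _, himg⟩
  rw [himg, Finset.card_image_of_injOn hinj]

theorem differentiableAt_coeff (j : ℕ) (v w : Fin d → ℂ) {s₀ : ℂ}
    (hs₀ : MvPolynomial.eval (line v w s₀) h ≠ 0) :
    DifferentiableAt ℂ (fun s => (factor m O₁ (line v w s)).coeff j) s₀ := by
  classical
  set v₀ := line v w s₀ with hv₀
  suffices DifferentiableAt ℂ (fun s => (factor m O₁ (line v₀ w s)).coeff j) 0 by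
    have e : ∀ s, line v w s = line v₀ w (s - s₀) := fun s => by funext i; simp [hv₀, line]; ring
    simp_rw [e]
    exact DifferentiableAt.comp s₀ (g := fun s => (factor m O₁ (line v₀ w s)).coeff j)
      (f := fun s => s - s₀) (by rwa [sub_self]) (differentiableAt_id.sub_const s₀)
  obtain ⟨lam, hl, hev⟩ := rootsIn_local hm hsep h₁ h₂ hcov hdisj hs₀
  have h0 : line v₀ w 0 = v₀ := by funext i; simp [line]
  have hc : Tendsto (line v₀ w) (𝓝 0) (𝓝 v₀) := by
    have := (continuous_line v₀ w).tendsto 0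
    rwa [h0] at this
  have hev' := hc.eventually hev
  let M : Polynomial (Polynomial ℂ) :=
    m.map (MvPolynomial.aeval fun i => C (v₀ i) + X * C (w i)).toRingHom
  have hM : ∀ s, M.map (evalRingHom s) = sp m (line v₀ w s) := fun s => by
    rw [Polynomial.map_map]
    congr 1
    exact RingHom.ext fun p => (eval_line p v₀ w s).symm
  have hμ : ∀ t ∈ rootsIn m O₁ v₀, DifferentiableAt ℂ (fun s => lam t (line v₀ w s)) 0 := by
    intro t ht
    refine differentiableAt_root M ?_ ?_ ?_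
    · have h2 : ContinuousAt (lam t) (line v₀ w 0) := by rw [h0]; exact (hl t ht).2
      exact h2.comp (continuous_line v₀ w).continuousAt
    · filter_upwards [hev'] with s hs
      rw [hM]; exact hs.2.2.1 t ht
    · rw [hM, h0, (hl t ht).1]
      exact hsep v₀ hs₀ t ((mem_rootsIn hm).1 ht).1
  have key : ∀ T ⊆ rootsIn m O₁ v₀, ∀ j, DifferentiableAt ℂ
      (fun s => (∏ t ∈ T, (X - C (lam t (line v₀ w s)))).coeff j) 0 := by
    intro T
    induction T using Finset.induction with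
    | empty => intro _ j; simp
    | insert a T ha ih =>
      intro hT j
      have ih' := ih ((Finset.subset_insert a T).trans hT)
      simp only [Finset.prod_insert ha, sub_mul, coeff_sub, coeff_C_mul]
      refine DifferentiableAt.sub ?_ ((hμ a (hT (Finset.mem_insert_self a T))).mul (ih' j))
      rcases j with _ | j
      · simp
      · simp only [coeff_X_mul]; exact ih' j
  refine (key _ subset_rfl j).congr_of_eventuallyEq ?_
  filter_upwards [hev'] with s ⟨_, hinj, _, himg⟩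
  rw [factor, himg, Finset.prod_image hinj]

omit hsep h₁ h₂ hcov hdisj in
theorem exists_bound : ∃ (C : ℝ) (M : ℕ), 0 ≤ C ∧
    ∀ (O : Set ((Fin d → ℂ) × ℂ)) (v : Fin d → ℂ) (j : ℕ),
      ‖(factor m O v).coeff j‖ ≤ C * (1 + ‖v‖) ^ M := by
  choose C N hC hb using fun i => exists_growth (m.coeff i)
  let N' := (Finset.range m.natDegree).sup N
  let C' : ℝ := 2 + ∑ i ∈ Finset.range m.natDegree, C i
  have hC' : 0 ≤ C' := add_nonneg (by norm_num) (Finset.sum_nonneg fun i _ => hC i)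
  refine ⟨C' ^ m.natDegree, N' * m.natDegree, pow_nonneg hC' _, fun O v j => ?_⟩
  have h1 : (1 : ℝ) ≤ 1 + ‖v‖ := by linarith [norm_nonneg v]
  rw [pow_mul, ← mul_pow]
  have hR1 : (1 : ℝ) ≤ C' * (1 + ‖v‖) ^ N' := by
    refine le_trans ?_ (mul_le_mul_of_nonneg_left (one_le_pow₀ h1) hC')
    rw [mul_one]
    have : 0 ≤ ∑ i ∈ Finset.range m.natDegree, C i := Finset.sum_nonneg fun i _ => hC i
    simp only [C']; linarith
  have hcard : (rootsIn m O v).card ≤ m.natDegree := by
    classical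
    refine (Finset.card_filter_le _ _).trans ((Multiset.toFinset_card_le _).trans ?_)
    exact (card_roots' _).trans natDegree_map_le
  refine (norm_coeff_prod_le _ (fun t ht => ?_) j).trans (pow_le_pow_right₀ hR1 hcard)
  have := Near.norm_root_le (hm.map _) ((mem_rootsIn hm).1 ht).1
  rw [hm.natDegree_map] at this
  have hsum : ∑ i ∈ Finset.range m.natDegree, ‖(sp m v).coeff i‖ ≤
      (∑ i ∈ Finset.range m.natDegree, C i) * (1 + ‖v‖) ^ N' := by
    rw [Finset.sum_mul]
    refine Finset.sum_le_sum fun i hi => ?_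
    rw [coeff_map]
    exact (hb i v).trans (mul_le_mul_of_nonneg_left
      (pow_le_pow_right₀ h1 (Finset.le_sup hi)) (hC i))
  simp only [C', add_mul]
  linarith [one_le_pow₀ (n := N') h1]

theorem exists_coeff (j : ℕ) : ∃ Q : ℙ d, ∀ v, MvPolynomial.eval v h ≠ 0 →
    (factor m O₁ v).coeff j = MvPolynomial.eval v Q := by
  by_cases hV : ∃ v₀ : Fin d → ℂ, MvPolynomial.eval v₀ h ≠ 0
  swap
  · exact ⟨0, fun v hv => absurd ⟨v, hv⟩ hV⟩
  obtain ⟨v₀, hv₀⟩ := hV
  obtain ⟨C, M, hC, hb⟩ := exists_bound hm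
  have hline : ∀ v w, MvPolynomial.eval v h ≠ 0 → ∃ p : ℂ[X], p.natDegree ≤ M ∧
      ∀ s, MvPolynomial.eval (line v w s) h ≠ 0 →
        (factor m O₁ (line v w s)).coeff j = p.eval s := by
    intro v w hv
    have hgr : ∀ s, ‖(factor m O₁ (line v w s)).coeff j‖ ≤
        C * (1 + ‖v‖ + ‖w‖) ^ M * (1 + ‖s‖) ^ M := fun s => by
      refine (hb _ _ _).trans ?_
      rw [mul_assoc, ← mul_pow]
      refine mul_le_mul_of_nonneg_left (pow_le_pow_left₀ (by positivity) ?_ _) hC
      have : ‖line v w s‖ ≤ ‖v‖ + ‖s‖ * ‖w‖ := by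
        refine (norm_add_le v (s • w)).trans_eq ?_
        rw [norm_smul]
      nlinarith [norm_nonneg v, norm_nonneg w, norm_nonneg s]
    obtain ⟨p, hp, hp'⟩ := exists_poly_of_growth_off (finite_zeros h v w hv)
      (fun s => (factor m O₁ (line v w s)).coeff j)
      (fun s hs => differentiableAt_coeff hm hsep h₁ h₂ hcov hdisj j v w hs) M
      (C * (1 + ‖v‖ + ‖w‖) ^ M) (fun s _ => hgr s)
    exact ⟨p, hp, fun s hs => hp' s hs⟩
  obtain ⟨r, hr, hball⟩ := Metric.isOpen_iff.1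
    ((isOpen_ne.preimage (MvPolynomial.continuous_eval h))) v₀ hv₀
  let D : Fin d → Set ℂ := fun i => Metric.ball (v₀ i) r
  have hbox : ∀ x ∈ Set.univ.pi D, MvPolynomial.eval x h ≠ 0 := fun x hx =>
    hball ((dist_pi_lt_iff hr).2 fun i => hx i trivial)
  obtain ⟨Q, hQ⟩ := exists_mvPolynomial_of_separately (M := M) D
    (fun i => infinite_of_mem_nhds (v₀ i) (Metric.ball_mem_nhds _ hr))
    (fun x => (factor m O₁ x).coeff j) (fun x hx i => by
      obtain ⟨p, hpd, hp⟩ := hline x (Pi.single i 1) (hbox x hx)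
      refine ⟨p.comp (X - Polynomial.C (x i)), ?_, fun s hs => ?_⟩
      · rw [natDegree_comp, natDegree_X_sub_C, mul_one]; exact hpd
      · have e : Function.update x i s = line x (Pi.single i 1) (s - x i) := by
          funext k
          by_cases hk : k = i
          · subst hk; simp [line]
          · simp [line, hk]
        simp only [eval_comp, eval_sub, eval_X, eval_C]
        rw [e]
        refine hp _ ?_
        rw [← e]
        exact hbox _ fun k _ => by
          by_cases hk : k = i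
          · subst hk; rw [Function.update_self]; exact hs
          · rw [Function.update_of_ne hk]; exact hx k trivial)
  refine ⟨Q, fun v hv => ?_⟩
  obtain ⟨p, -, hp⟩ := hline v₀ (v - v₀) hv₀
  let q : ℂ[X] := MvPolynomial.aeval (fun i => Polynomial.C (v₀ i) + X * Polynomial.C ((v - v₀) i)) Q
  have hinf : {s : ℂ | line v₀ (v - v₀) s ∈ Set.univ.pi D}.Infinite := by
    refine infinite_of_mem_nhds 0 ?_
    refine (continuous_line _ _).continuousAt.preimage_mem_nhds ?_
    refine (isOpen_set_pi Set.finite_univ fun i _ => Metric.isOpen_ball).mem_nhds fun i _ => ?_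
    simp [line, D, hr]
  have hpq : p = q := eq_of_infinite_eval_eq p q (hinf.mono fun s hs => by
    change p.eval s = q.eval s
    rw [← hp s (hbox _ hs), ← eval_line]
    exact hQ _ hs)
  have e1 : line v₀ (v - v₀) 1 = v := by funext i; simp [line]
  have h3 := hp 1 (by rw [e1]; exact hv)
  rw [hpq, ← eval_line, e1] at h3
  exact h3

theorem exists_factor : ∃ q : Polynomial (ℙ d), q.Monic ∧
    (∀ v, MvPolynomial.eval v h ≠ 0 → sp q v = factor m O₁ v) ∧
    (∀ v, MvPolynomial.eval v h ≠ 0 → q.natDegree = (rootsIn m O₁ v).card) := by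
  by_cases hV : ∃ v₀ : Fin d → ℂ, MvPolynomial.eval v₀ h ≠ 0
  swap
  · exact ⟨1, monic_one, fun v hv => absurd ⟨v, hv⟩ hV, fun v hv => absurd ⟨v, hv⟩ hV⟩
  obtain ⟨v₀, hv₀⟩ := hV
  choose Q hQ using fun j => exists_coeff hm hsep h₁ h₂ hcov hdisj j
  set k := (rootsIn m O₁ v₀).card with hk
  have hfd : ∀ v, (factor m O₁ v).natDegree = (rootsIn m O₁ v).card := fun v => by
    rw [factor, natDegree_finset_prod_X_sub_C_eq_card]
  let low : Polynomial (ℙ d) := ∑ j ∈ Finset.range k, Polynomial.C (Q j) * X ^ j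
  have hlow : low.degree < k := (degree_sum_le _ _).trans_lt <| (Finset.sup_lt_iff
    (WithBot.bot_lt_coe k)).2 fun j hj => lt_of_le_of_lt (degree_C_mul_X_pow_le j _)
      (WithBot.coe_lt_coe.2 (Finset.mem_range.1 hj))
  refine ⟨X ^ k + low, monic_X_pow_add hlow, fun v hv => ?_, fun v hv => ?_⟩
  · have hkv : (factor m O₁ v).natDegree = k := by
      rw [hfd, hk]; exact card_rootsIn_eq hm hsep h₁ h₂ hcov hdisj hv hv₀
    have hmon : (factor m O₁ v).Monic := monic_prod_X_sub_C _ _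
    conv_rhs => rw [hmon.as_sum, hkv]
    rw [sp, Polynomial.map_add, Polynomial.map_pow, map_X, Polynomial.map_sum]
    congr 1
    refine Finset.sum_congr rfl fun j _ => ?_
    rw [Polynomial.map_mul, Polynomial.map_pow, map_X, map_C, hQ j v hv]
  · rw [natDegree_add_eq_left_of_degree_lt (by rwa [degree_X_pow]), natDegree_X_pow, hk]
    exact card_rootsIn_eq hm hsep h₁ h₂ hcov hdisj hv₀ hv

omit hm hsep h₁ h₂ hcov hdisj

/-- The points over `h ≠ 0` of the zero set of `m` form a preconnected space. -/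
theorem isPreconnected_zeroSet (hm : m.Monic) (hirr : Irreducible m)
    (hsep : ∀ v, MvPolynomial.eval v h ≠ 0 → ∀ t, (sp m v).eval t = 0 →
      (sp m v).derivative.eval t ≠ 0) :
    IsPreconnected {p : (Fin d → ℂ) × ℂ | MvPolynomial.eval p.1 h ≠ 0 ∧
      (sp m p.1).eval p.2 = 0} := by
  classical
  intro O₁ O₂ h₁ h₂ hsub ⟨⟨v₁, t₁⟩, ⟨hv₁, ht₁⟩, hO₁⟩ ⟨⟨v₂, t₂⟩, ⟨hv₂, ht₂⟩, hO₂⟩
  by_contra hne
  rw [Set.not_nonempty_iff_eq_empty] at hne
  have hcov : ∀ v t, MvPolynomial.eval v h ≠ 0 → (sp m v).eval t = 0 →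
      (v, t) ∈ O₁ ∨ (v, t) ∈ O₂ := fun v t a b => hsub ⟨a, b⟩
  have hdisj : ∀ v t, MvPolynomial.eval v h ≠ 0 → (sp m v).eval t = 0 →
      (v, t) ∈ O₁ → (v, t) ∉ O₂ := fun v t a b c e =>
    (Set.eq_empty_iff_forall_notMem.1 hne) (v, t) ⟨⟨a, b⟩, c, e⟩
  have hcov' : ∀ v t, MvPolynomial.eval v h ≠ 0 → (sp m v).eval t = 0 →
      (v, t) ∈ O₂ ∨ (v, t) ∈ O₁ := fun v t a b => (hcov v t a b).symm
  have hdisj' : ∀ v t, MvPolynomial.eval v h ≠ 0 → (sp m v).eval t = 0 →
      (v, t) ∈ O₂ → (v, t) ∉ O₁ := fun v t a b c e => hdisj v t a b e c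
  obtain ⟨q₁, hq₁m, hq₁, hq₁d⟩ := exists_factor hm hsep h₁ h₂ hcov hdisj
  obtain ⟨q₂, hq₂m, hq₂, hq₂d⟩ := exists_factor hm hsep h₂ h₁ hcov' hdisj'
  have hprod : ∀ v, MvPolynomial.eval v h ≠ 0 → sp (q₁ * q₂) v = sp m v := by
    intro v hv
    rw [sp, Polynomial.map_mul, show q₁.map (MvPolynomial.eval v) = _ from hq₁ v hv,
      show q₂.map (MvPolynomial.eval v) = _ from hq₂ v hv, factor, factor]
    have hu : rootsIn m O₁ v ∪ rootsIn m O₂ v = (sp m v).roots.toFinset := by
      ext t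
      simp only [Finset.mem_union, mem_rootsIn hm, Multiset.mem_toFinset,
        mem_roots (hm.map (MvPolynomial.eval v)).ne_zero, IsRoot.def]
      exact ⟨fun ht => ht.elim And.left And.left, fun ht =>
        (hcov v t hv ht).imp (⟨ht, ·⟩) (⟨ht, ·⟩)⟩
    have hd : Disjoint (rootsIn m O₁ v) (rootsIn m O₂ v) := Finset.disjoint_left.2 fun t a b =>
      hdisj v t hv ((mem_rootsIn hm).1 a).1 ((mem_rootsIn hm).1 a).2 ((mem_rootsIn hm).1 b).2
    rw [← Finset.prod_union hd, hu]
    have hnd : (sp m v).roots.Nodup := by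
      rw [← Multiset.toFinset_card_eq_card_iff_nodup, card_roots hm hsep hv,
        ← (IsAlgClosed.splits (sp m v)).natDegree_eq_card_roots]
      exact (hm.natDegree_map _).symm
    rw [Finset.prod_eq_multiset_prod, Multiset.toFinset_val, hnd.dedup]
    exact ((IsAlgClosed.splits (sp m v)).eq_prod_roots_of_monic (hm.map _)).symm
  have hh0 : h ≠ 0 := fun e => hv₁ (by rw [e, map_zero])
  have hm' : m = q₁ * q₂ := by
    ext1 j
    refine sub_eq_zero.1 ((mul_eq_zero.1 (?_ : h * (m.coeff j - (q₁ * q₂).coeff j) = 0)).resolve_left hh0)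
    refine MvPolynomial.funext fun v => ?_
    rw [map_mul, map_zero, map_sub]
    by_cases hv : MvPolynomial.eval v h = 0
    · rw [hv, zero_mul]
    · rw [← coeff_map, ← coeff_map]
      change _ * ((sp m v).coeff j - (sp (q₁ * q₂) v).coeff j) = 0
      rw [hprod v hv, sub_self, mul_zero]
  rcases hirr.isUnit_or_isUnit hm' with hu | hu
  · have := hq₁d v₁ hv₁
    rw [hq₁m.eq_one_of_isUnit hu, natDegree_one] at this
    exact Finset.card_pos.2 ⟨t₁, (mem_rootsIn hm).2 ⟨ht₁, hO₁⟩⟩ |>.ne this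
  · have := hq₂d v₂ hv₂
    rw [hq₂m.eq_one_of_isUnit hu, natDegree_one] at this
    exact Finset.card_pos.2 ⟨t₂, (mem_rootsIn hm).2 ⟨ht₂, hO₂⟩⟩ |>.ne this

end Groth.Agent.AnPts.Conn
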